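import Mathlib
import Cfsg.Agent.Lib.Hall.Carter
import Cfsg.Agent.Lib.FrobThm.Basic
import Cfsg.Agent.Lib.Core.MinNormal2
import Cfsg.Agent.Lib.Transfer.Frat
import Cfsg.Agent.Lib.Hall.CoprimeLemmas
import Cfsg.Prelude.Def_SolvableStructure

/-!
# Schmidt's theorem on minimal non-nilpotent groups
-/

set_option autoImplicit false

namespace Cfsg.Agent.Lib.Hall

open Cfsg Subgroup Cfsg.Agent.Lib.Core
open scoped Pointwise commutatorElement

universe u

section Aux

variable {G : Type*} [Group G] [Finite G]

theorem isCoatom_conj_smul {M : Subgroup G} (hM : IsCoatom M) (g : G) : IsCoatom (MulAut.conj g • M) :=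
  (((MulAut.conj g).mapSubgroup).isCoatom_iff M).mpr hM

/-- an element of a nilpotent `M` outside a proper subgroup `D` normalizing `D` -/
theorem exists_mem_normalizer_of_lt_nilpotent {D M : Subgroup G} (hDM : D < M) (hM : Group.IsNilpotent M) :
    ∃ x ∈ M, x ∉ D ∧ x ∈ normalizer (D : Set G) := by
  have h1 : D.subgroupOf M < ⊤ := by
    refine lt_top_iff_ne_top.mpr fun h => not_le_of_gt hDM ?_
    intro x hx
    have : (⟨x, hx⟩ : M) ∈ D.subgroupOf M := by rw [h]; trivial
    exact this
  have h2 := Group.normalizerCondition_of_isNilpotent (G := M) _ h1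
  obtain ⟨x, hx, hx2⟩ := SetLike.exists_of_lt h2
  refine ⟨x, x.2, hx2, ?_⟩
  apply mem_normalizer_fintype
  intro n hn
  have hnX : n ∈ M := hDM.le hn
  exact (mem_normalizer_iff.mp hx ⟨n, hnX⟩).mp hn

theorem NilParts.right_normal {p : ℕ} [Fact p.Prime] {F A B : Subgroup G} [hF : F.Normal]
    (hf : NilParts p F A B) : B.Normal := by
  rw [← Subgroup.normalizer_eq_top_iff, eq_top_iff, ← Subgroup.normalizer_eq_top_iff.mpr hF]
  exact hf.normalizer_le

theorem NilParts.left_normal {p : ℕ} [Fact p.Prime] {F A B : Subgroup G} [hF : F.Normal]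
    (hf : NilParts p F A B) : A.Normal := by
  constructor
  intro a ha g
  have h1 : MulAut.conj g • A ≤ F := by
    have := conj_smul_le_conj_smul (g := g) hf.le_left
    rwa [conj_smul_eq_self_of_normal g F] at this
  have h2 : IsPGroup p (MulAut.conj g • A : Subgroup G) := hf.isP.map _
  exact hf.le_left_of h1 h2 (conj_mem_conj_smul ha)

end Aux

/-- **Schmidt's theorem** -/
theorem isSolvable_of_coatoms_nilpotent : ∀ (n : ℕ) (G : Type u) [Group G] [Finite G],
    Nat.card G = n → (∀ M : Subgroup G, IsCoatom M → Group.IsNilpotent M) → Group.IsSolvable G := by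
  intro n
  induction n using Nat.strong_induction_on with
  | _ n ih =>
    intro G _ _ hn h
    by_cases hsimple : ∃ N : Subgroup G, N.Normal ∧ N ≠ ⊥ ∧ N ≠ ⊤
    · obtain ⟨N, hNn, hN1, hNt⟩ := hsimple
      have hπ := QuotientGroup.mk'_surjective N
      have h1 : Group.IsSolvable (G ⧸ N) := by
        refine ih _ (hn ▸ card_quotient_lt hN1) (G ⧸ N) rfl ?_
        intro Mb hMb
        have hM := h _ (Subgroup.isCoatom_comap_of_surjective hπ hMb)
        have h2 : Mb = (Mb.comap (QuotientGroup.mk' N)).map (QuotientGroup.mk' N) :=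
          (Subgroup.map_comap_eq_self_of_surjective hπ Mb).symm
        rw [h2]
        exact Group.nilpotent_of_surjective _
          ((QuotientGroup.mk' N).subgroupMap_surjective (Mb.comap (QuotientGroup.mk' N)))
      obtain ⟨M, hM, hNM⟩ := (eq_top_or_exists_le_coatom N).resolve_left hNt
      have hMn := h M hM
      have h3 : Group.IsNilpotent N :=
        isNilpotent_of_injective (Subgroup.inclusion hNM) (Subgroup.inclusion_injective hNM)
      exact Group.isSolvable_of_ker_le_range N.subtype (QuotientGroup.mk' N) (by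
        rw [QuotientGroup.ker_mk', Subgroup.range_subtype])
    · push_neg at hsimple
      by_cases hcomm : ∀ x y : G, x * y = y * x
      · exact Group.isSolvable_of_comm hcomm
      exfalso
      have hsimple' : ∀ N : Subgroup G, N.Normal → N = ⊥ ∨ N = ⊤ := by
        intro N hN
        by_cases h1 : N = ⊥
        · exact Or.inl h1
        · exact Or.inr (hsimple N hN h1)
      have hnt : Nontrivial G := by
        by_contra h1
        rw [not_nontrivial_iff_subsingleton] at h1
        exact hcomm fun x y => Subsingleton.elim _ _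
      -- coatoms are nontrivial
      have hne : ∀ M : Subgroup G, IsCoatom M → M ≠ ⊥ := by
        intro M hM hM1
        subst hM1
        apply hcomm
        obtain ⟨x, hx⟩ := exists_ne (1 : G)
        have h1 : zpowers x = ⊤ := by
          apply hM.2
          refine bot_lt_iff_ne_bot.mpr ?_
          intro h2
          exact hx (Subgroup.zpowers_eq_bot.mp h2)
        have h2 : IsCyclic G := ⟨x, fun y => by
          have : y ∈ zpowers x := by rw [h1]; trivial
          exact this⟩
        exact fun a b => IsCyclic.exists_generator.elim fun g hg => by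
          obtain ⟨i, hi⟩ := hg a
          obtain ⟨j, hj⟩ := hg b
          have hi' : g ^ i = a := hi
          have hj' : g ^ j = b := hj
          rw [← hi', ← hj']
          exact zpow_mul_comm g i j
      have hnotnormal : ∀ M : Subgroup G, IsCoatom M → normalizer (M : Set G) = M := by
        intro M hM
        by_contra h1
        have h2 : M < normalizer (M : Set G) :=
          lt_of_le_of_ne Subgroup.le_normalizer (Ne.symm h1)
        have h3 := hM.2 _ h2
        rw [Subgroup.normalizer_eq_top_iff] at h3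
        rcases hsimple' M h3 with h4 | h4
        · exact hne M hM h4
        · exact hM.1 h4
      by_cases hTI : ∀ M M' : Subgroup G, IsCoatom M → IsCoatom M' → M ≠ M' → M ⊓ M' = ⊥
      · obtain ⟨M, hM, -⟩ := (eq_top_or_exists_le_coatom (⊥ : Subgroup G)).resolve_left bot_ne_top
        have hF : IsFrobeniusComplement M := by
          refine ⟨hne M hM, hM.1, fun g hg => hTI M _ hM (isCoatom_conj_smul hM g) ?_⟩
          intro h1
          apply hg
          rw [← hnotnormal M hM]
          exact mem_normalizer_of_conj_smul_eq h1.symm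
        obtain ⟨N, -, hNn, hNc⟩ := Cfsg.Agent.Lib.FrobThm.frobenius_theorem M hF
        rcases hsimple' N hNn with h1 | h1
        · have h2 : M = ⊤ := by
            have := hNc.sup_eq_top
            rwa [h1, bot_sup_eq] at this
          exact hM.1 h2
        · have h2 : M = ⊥ := by
            have := hNc.disjoint
            rw [h1, disjoint_iff, top_inf_eq] at this
            exact this
          exact hne M hM h2
      · push_neg at hTI
        obtain ⟨M₀, M₀', hM₀, hM₀', hne₀, hD₀⟩ := hTI
        let S : Set (Subgroup G) := {D | D ≠ ⊥ ∧ ∃ M M' : Subgroup G, IsCoatom M ∧ IsCoatom M' ∧ M ≠ M' ∧ D = M ⊓ M'}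
        have hSne : S.Nonempty := ⟨_, hD₀, M₀, M₀', hM₀, hM₀', hne₀, rfl⟩
        obtain ⟨D, hD⟩ := S.toFinite.exists_maximal hSne
        obtain ⟨hD1, M, M', hM, hM', hMM', rfl⟩ := hD.1
        have hlt : M ⊓ M' < M := by
          refine lt_of_le_of_ne inf_le_left ?_
          intro h1
          apply hMM'
          exact ((hM.le_iff_eq hM'.1).mp (inf_eq_left.mp h1)).symm
        have hlt' : M ⊓ M' < M' := by
          refine lt_of_le_of_ne inf_le_right ?_
          intro h1
          apply hMM'
          exact (hM'.le_iff_eq hM.1).mp (inf_eq_right.mp h1)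
        have hnt2 : normalizer ((M ⊓ M' : Subgroup G) : Set G) ≠ ⊤ := by
          intro h1
          rw [Subgroup.normalizer_eq_top_iff] at h1
          rcases hsimple' _ h1 with h4 | h4
          · exact hD1 h4
          · exact hM.1 (top_le_iff.mp (h4 ▸ inf_le_left))
        obtain ⟨M'', hM'', hle⟩ := (eq_top_or_exists_le_coatom _).resolve_left hnt2
        have key : ∀ X : Subgroup G, IsCoatom X → M ⊓ M' < X → X = M'' := by
          intro X hX hltX
          by_contra hXM
          obtain ⟨x, hxX, hxD, hxN⟩ := exists_mem_normalizer_of_lt_nilpotent hltX (h X hX)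
          have h1 : X ⊓ M'' ∈ S := by
            refine ⟨?_, X, M'', hX, hM'', hXM, rfl⟩
            intro h2
            apply hD1
            rw [eq_bot_iff, ← h2]
            exact le_inf hltX.le (Subgroup.le_normalizer.trans hle)
          have h2 : M ⊓ M' ≤ X ⊓ M'' := le_inf hltX.le (Subgroup.le_normalizer.trans hle)
          have h3 := hD.2 h1 h2
          exact hxD (h3 ⟨hxX, hle hxN⟩)
        exact hMM' ((key M hM hlt).trans (key M' hM' hlt').symm)

/-- **Structure of minimal non-nilpotent groups.** -/
theorem minimal_non_nilpotent_structure {G : Type u} [Group G] [Finite G] (hG : IsMinimalNonNilpotent G) :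
    ∃ p q : ℕ, p.Prime ∧ q.Prime ∧ p ≠ q ∧ ∃ (P : Sylow p G) (Q : Sylow q G), IsCyclic P ∧
      (Q : Subgroup G).Normal ∧ (P : Subgroup G) ⊔ Q = ⊤ := by
  classical
  obtain ⟨hnil, hprop⟩ := hG
  have hsolv : Group.IsSolvable G :=
    isSolvable_of_coatoms_nilpotent _ G rfl (fun M hM => hprop M hM.1)
  have hnt : Nontrivial G := by
    by_contra h1
    rw [not_nontrivial_iff_subsingleton] at h1
    exact hnil Group.isNilpotent_of_subsingleton
  have hcomm : commutator G ≠ ⊤ := (IsSolvable.commutator_lt_top_of_nontrivial G).ne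
  obtain ⟨N, hN, hcN⟩ := (eq_top_or_exists_le_coatom _).resolve_left hcomm
  have hNn : N.Normal := by
    constructor
    intro x hx g
    have h1 : g * x * g⁻¹ * x⁻¹ ∈ N := hcN (Subgroup.commutator_mem_commutator
      (Subgroup.mem_top g) (Subgroup.mem_top x))
    have h2 : g * x * g⁻¹ = (g * x * g⁻¹ * x⁻¹) * x := by group
    rw [h2]
    exact N.mul_mem h1 hx
  obtain ⟨p, k, hp', hk, hpk⟩ := isPrimePow_index_of_coatom N hN
  have hp : p.Prime := hp'.nat_prime
  have hpf : Fact p.Prime := ⟨hp⟩
  have hNnil := hprop N hN.1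
  have hindex : ∀ r : ℕ, r.Prime → r ≠ p → ¬ r ∣ N.index := by
    intro r hr hrp h1
    rw [← hpk] at h1
    exact hrp ((Nat.prime_dvd_prime_iff_eq hr hp).mp (hr.dvd_of_dvd_pow h1))
  have key1 : ∀ (r : ℕ) [Fact r.Prime], r ≠ p → ∀ S : Sylow r G, (S : Subgroup G) ≤ N ∧ (S : Subgroup G).Normal := by
    intro r hrf hrp S
    have hr := hrf.out
    have hSN : (S : Subgroup G) ≤ N := by
      intro x hx
      obtain ⟨m, hm⟩ := S.isPGroup' ⟨x, hx⟩
      have h1 : x ^ r ^ m = 1 := by simpa using congrArg Subtype.val hm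
      have h2 : orderOf (QuotientGroup.mk' N x) ∣ r ^ m := orderOf_dvd_of_pow_eq_one (by
        rw [← map_pow, h1, map_one])
      have h3 : orderOf (QuotientGroup.mk' N x) ∣ N.index := orderOf_dvd_natCard _
      have hcop : (r ^ m).Coprime N.index := Nat.Coprime.pow_left _
        ((Nat.Prime.coprime_iff_not_dvd hr).mpr (hindex r hr hrp))
      have h4 := Nat.eq_one_of_dvd_coprimes hcop h2 h3
      rw [orderOf_eq_one_iff] at h4
      exact (QuotientGroup.eq_one_iff x).mp h4
    refine ⟨hSN, ?_⟩
    obtain ⟨A, B, hf⟩ := exists_nilParts r N hNnil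
    have hA := hf.left_normal
    have h1 := hf.le_left_of hSN S.isPGroup'
    have h2 := S.3 hf.isP h1
    rw [← h2]
    exact hA
  obtain ⟨P⟩ : Nonempty (Sylow p G) := inferInstance
  have hPn : ¬ (P : Subgroup G).Normal := by
    intro hPn
    apply hnil
    refine (Group.isNilpotent_of_finite_tfae (G := G)).out 0 3 |>.mpr ?_
    intro r hrf S
    by_cases hrp : r = p
    · subst hrp
      have hu := Sylow.unique_of_normal P hPn
      rw [Subsingleton.elim S P]
      exact hPn
    · exact (key1 r hrp S).2
  -- some `q` with `P Q = G`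
  have key2 : ∃ q : ℕ, q.Prime ∧ q ≠ p ∧ ∃ Q : Sylow q G, (P : Subgroup G) ⊔ Q = ⊤ := by
    by_contra hcon
    push_neg at hcon
    apply hPn
    rw [← Subgroup.normalizer_eq_top_iff, ← Subgroup.index_eq_one]
    by_contra hne
    obtain ⟨r, hr, hrdvd⟩ := Nat.exists_prime_and_dvd hne
    have hrf : Fact r.Prime := ⟨hr⟩
    by_cases hrp : r = p
    · subst hrp
      exact P.not_dvd_index (hrdvd.trans (Subgroup.index_dvd_of_le Subgroup.le_normalizer))
    · obtain ⟨Q⟩ : Nonempty (Sylow r G) := inferInstance
      have hQ : (Q : Subgroup G) ≤ normalizer ((P : Subgroup G) : Set G) := by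
        have hX := hprop _ (hcon r hr hrp Q)
        obtain ⟨A, B, hf⟩ := exists_nilParts p _ hX
        have h1 := hf.le_left_of le_sup_left P.isPGroup'
        have hndvd : ¬ p ∣ Nat.card (Q : Subgroup G) := by
          intro h2
          obtain ⟨m, hm⟩ := IsPGroup.iff_card.mp Q.isPGroup'
          rw [hm] at h2
          exact hrp ((Nat.prime_dvd_prime_iff_eq hp hr).mp (hp.dvd_of_dvd_pow h2)).symm
        have h2 := hf.le_right_of le_sup_right hndvd
        intro x hx
        apply centralizer_le_normalizer'
        refine Subgroup.mem_centralizer_iff.mpr fun a ha => ?_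
        exact (Subgroup.mem_centralizer_iff.mp (hf.comm (h1 ha)) x (h2 hx)).symm
      exact Q.not_dvd_index (hrdvd.trans (Subgroup.index_dvd_of_le hQ))
  obtain ⟨q, hq, hqp, Q, hPQ⟩ := key2
  have hqf : Fact q.Prime := ⟨hq⟩
  obtain ⟨hQN, hQn⟩ := key1 q hqp Q
  refine ⟨p, q, hp, hq, hqp.symm, P, Q, ?_, hQn, hPQ⟩
  have hQp : ¬ p ∣ Nat.card (Q : Subgroup G) := by
    intro h2
    obtain ⟨m, hm⟩ := IsPGroup.iff_card.mp Q.isPGroup'
    rw [hm] at h2
    exact hqp ((Nat.prime_dvd_prime_iff_eq hp hq).mp (hp.dvd_of_dvd_pow h2)).symm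
  have hPQ0 : ∀ X : Subgroup G, X ≤ P → X ⊓ Q = ⊥ := by
    intro X hX
    apply Subgroup.eq_bot_of_card_eq
    obtain ⟨m, hm⟩ := IsPGroup.iff_card.mp (P.isPGroup'.to_le hX)
    have hcop : (Nat.card X).Coprime (Nat.card (Q : Subgroup G)) := by
      rw [hm]
      exact Nat.Coprime.pow_left _ ((Nat.Prime.coprime_iff_not_dvd hp).mpr hQp)
    exact Nat.eq_one_of_dvd_coprimes hcop (Subgroup.card_dvd_of_le inf_le_left)
      (Subgroup.card_dvd_of_le inf_le_right)
  have hle : ∀ X : Subgroup G, X ≤ normalizer ((Q : Subgroup G) : Set G) := by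
    intro X
    rw [Subgroup.normalizer_eq_top_iff.mpr hQn]
    exact le_top
  -- an element of `P` outside `N`
  have hPN : ¬ (P : Subgroup G) ≤ N := by
    intro h1
    apply P.not_dvd_index
    refine dvd_trans ?_ (Subgroup.index_dvd_of_le h1)
    rw [← hpk]
    exact dvd_pow_self p hk.ne'
  obtain ⟨g, hgP, hgN⟩ := SetLike.not_le_iff_exists.mp hPN
  have hgle : zpowers g ≤ (P : Subgroup G) := by
    rw [Subgroup.zpowers_le]
    exact hgP
  by_cases hsup2 : zpowers g ⊔ (Q : Subgroup G) = ⊤
  · have h1 := card_sup_of_le_normalizer (hle (zpowers g)) (hPQ0 _ hgle)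
    have h2 := card_sup_of_le_normalizer (hle (P : Subgroup G)) (hPQ0 _ le_rfl)
    rw [hsup2] at h1
    rw [hPQ] at h2
    have h3 : Nat.card (zpowers g) = Nat.card (P : Subgroup G) :=
      Nat.eq_of_mul_eq_mul_right Nat.card_pos (h1.symm.trans h2)
    have h4 : zpowers g = (P : Subgroup G) := Subgroup.eq_of_le_of_card_ge hgle h3.ge
    rw [← h4]
    infer_instance
  · exfalso
    have hX := hprop _ hsup2
    obtain ⟨A, B, hf⟩ := exists_nilParts p _ hX
    have h1 := hf.le_left_of le_sup_left (P.isPGroup'.to_le hgle)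
    have h2 := hf.le_right_of le_sup_right hQp
    have hg : g ∈ centralizer ((Q : Subgroup G) : Set G) := by
      refine Subgroup.mem_centralizer_iff.mpr fun a ha => ?_
      have := Subgroup.mem_centralizer_iff.mp (hf.comm (h1 (Subgroup.mem_zpowers g))) a (h2 ha)
      exact this
    obtain ⟨A', B', hf'⟩ := exists_nilParts p N hNnil
    have h3 := hf'.le_left_of (X := (P : Subgroup G) ⊓ N) inf_le_right (P.isPGroup'.to_le inf_le_left)
    have h4 := hf'.le_right_of hQN hQp
    have hPc : (P : Subgroup G) ≤ centralizer ((Q : Subgroup G) : Set G) := by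
      intro x hx
      have htop : zpowers g ⊔ N = ⊤ := by
        rw [sup_comm]
        apply hN.2
        refine lt_of_le_of_ne le_sup_left ?_
        intro h5
        apply hgN
        rw [h5]
        exact Subgroup.mem_sup_right (Subgroup.mem_zpowers g)
      have hxt : x ∈ zpowers g ⊔ N := by rw [htop]; trivial
      obtain ⟨a, ha, b, hb, rfl⟩ := exists_mul_of_mem_sup_normal_right hxt
      have haP : a ∈ (P : Subgroup G) := hgle ha
      have hbP : b ∈ (P : Subgroup G) := by
        have : b = a⁻¹ * (a * b) := by group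
        rw [this]
        exact Subgroup.mul_mem _ (Subgroup.inv_mem _ haP) hx
      have hac : a ∈ centralizer ((Q : Subgroup G) : Set G) := by
        have : zpowers g ≤ centralizer ((Q : Subgroup G) : Set G) := by
          rw [Subgroup.zpowers_le]
          exact hg
        exact this ha
      have hbc : b ∈ centralizer ((Q : Subgroup G) : Set G) := by
        refine Subgroup.mem_centralizer_iff.mpr fun c hc => ?_
        exact Subgroup.mem_centralizer_iff.mp (hf'.comm (h3 ⟨hbP, hb⟩)) c (h4 hc)
      exact Subgroup.mul_mem _ hac hbc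
    apply hPn
    rw [← Subgroup.normalizer_eq_top_iff, eq_top_iff, ← hPQ]
    refine sup_le Subgroup.le_normalizer ?_
    intro x hx
    apply centralizer_le_normalizer'
    refine Subgroup.mem_centralizer_iff.mpr fun a ha => ?_
    exact (Subgroup.mem_centralizer_iff.mp (hPc ha) x hx).symm

end Cfsg.Agent.Lib.Hall
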