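import Mathlib
import Cfsg.Agent.Lib.Core.Conj

/-!
# Fixed-point-free automorphisms
-/

set_option autoImplicit false

namespace Cfsg.Agent.Lib.Hall

open Cfsg Subgroup Cfsg.Agent.Lib.Core
open scoped Pointwise

variable {G : Type*} [Group G] [Finite G]

/-- A fixed-point-free automorphism of a finite group leaves invariant a Sylow `p`-subgroup. -/
theorem exists_invariant_sylow_of_fixedPointFree (φ : G ≃* G)
    (hφ : MonoidHom.FixedPointFree (φ : G →* G)) (p : ℕ) [Fact p.Prime] :
    ∃ P : Sylow p G, (P : Subgroup G).map (φ : G →* G) = P := by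
  classical
  let P : Sylow p G := default
  -- the image of `P` as a Sylow subgroup
  let P' : Sylow p G := (φ : MulAut G) • P
  have hP' : (P' : Subgroup G) = (P : Subgroup G).map (φ : G →* G) := rfl
  obtain ⟨g, hg⟩ := MulAction.exists_smul_eq G P P'
  have hg' : MulAut.conj g • (P : Subgroup G) = (P : Subgroup G).map (φ : G →* G) := by
    rw [← hP', ← hg]
    rfl
  obtain ⟨x, hx⟩ := hφ.commutatorMap_surjective g⁻¹
  have hx' : x / φ x = g⁻¹ := hx
  let y : G := x⁻¹
  have hy : φ y * g = y := by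
    have h1 : g = (x / φ x)⁻¹ := by rw [hx', inv_inv]
    show φ x⁻¹ * g = x⁻¹
    rw [h1, map_inv, div_eq_mul_inv]
    group
  let Q : Sylow p G := MulAut.conj y • P
  refine ⟨Q, ?_⟩
  show (MulAut.conj y • (P : Subgroup G)).map (φ : G →* G) = MulAut.conj y • (P : Subgroup G)
  rw [Cfsg.Agent.Lib.Core.map_conj_smul, ← hg', Cfsg.Agent.Lib.Core.conj_smul_conj_smul]
  congr 2

end Cfsg.Agent.Lib.Hall
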